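import Groth.Agent.Misc10.FrobSplit.TracePow
import Groth.Agent.Misc6.FinCovTrace
import Groth.Agent.CohFin.PushAffine
import Groth.Agent.DAlg.SiteInj
import Groth.Agent.QCohMod.Stalk
import Groth.Prelude.Def_Frob
import Groth.Prelude.Def_ClSub2

/-!
# Frobenius cokernels of étale double covers
-/

set_option autoImplicit false
set_option backward.isDefEq.respectTransparency false

universe u

open CategoryTheory CategoryTheory.Limits AlgebraicGeometry TopologicalSpace Opposite

noncomputable section

namespace Groth.Misc10.FrobSplit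

open Groth.PicAux Groth.Misc6.FinCov
open Groth.QCohMod hiding res

variable {p : ℕ} [Fact p.Prime] {X Y : Scheme.{u}} [FrobSch.IsCharP X p] [FrobSch.IsCharP Y p]

/-- The underlying abelian sheaf of a module, as a functor. -/
abbrev ab (X : Scheme.{u}) : X.Modules ⥤ Sheaf (Opens.grothendieckTopology X) AddCommGrpCat.{u} :=
  SheafOfModules.toSheaf X.ringCatSheaf

instance : PreservesFiniteLimits (ab X) :=
  inferInstanceAs (PreservesFiniteLimits (Groth.QCohMod.toAbFunctor X))

instance : PreservesFiniteColimits (ab X) := Groth.DAlg.SiteInj.preservesFiniteColimits_toSheaf _ _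

variable (X) (p) in
theorem isAffineHom_frob : IsAffineHom (FrobSch.frob X p) :=
  ⟨fun U hU => by rw [FrobSch.frob_preimage]; exact hU⟩

variable (p) in
/-- The pushed forward Frobenius sequence of `Y`. -/
theorem epi_and_exact_push (f : Y ⟶ X) [IsAffineHom f] :
    Epi ((ab X).map ((Scheme.Modules.pushforward f).map
      (cokernel.π (ClSub.unitToPush (FrobSch.frob Y p))))) ∧
    ∀ (A : Sheaf (Opens.grothendieckTopology X) AddCommGrpCat.{u})
      (h : (ab X).obj ((Scheme.Modules.pushforward f).obj
        ((Scheme.Modules.pushforward (FrobSch.frob Y p)).obj (Coh.structureModule Y))) ⟶ A),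
      (ab X).map ((Scheme.Modules.pushforward f).map (ClSub.unitToPush (FrobSch.frob Y p))) ≫ h = 0 →
      ∃ d, (ab X).map ((Scheme.Modules.pushforward f).map
        (cokernel.π (ClSub.unitToPush (FrobSch.frob Y p)))) ≫ d = h := by
  let u := ClSub.unitToPush (FrobSch.frob Y p)
  let π := cokernel.π u
  have := isAffineHom_frob (p := p) (X := Y)
  have : ((Scheme.Modules.pushforward (FrobSch.frob Y p)).obj (Coh.structureModule Y)).IsQuasicoherent :=
    Groth.QCohMod.isQCoh_pushforward _ _
  let S := ShortComplex.mk (kernel.ι π) π (kernel.condition π)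
  have hS : S.ShortExact :=
    { exact := ShortComplex.exact_of_f_is_kernel _ (kernelIsKernel π)
      mono_f := inferInstanceAs (Mono (kernel.ι π))
      epi_g := inferInstanceAs (Epi (cokernel.π u)) }
  have : S.X₁.IsQuasicoherent := inferInstanceAs (kernel π).IsQuasicoherent
  have : S.X₂.IsQuasicoherent := ‹((Scheme.Modules.pushforward (FrobSch.frob Y p)).obj _).IsQuasicoherent›
  have : S.X₃.IsQuasicoherent := inferInstanceAs (cokernel u).IsQuasicoherent
  let l := kernel.lift π u (cokernel.condition u)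
  have hl : Epi l := by
    have h : (ShortComplex.mk u π (cokernel.condition u)).Exact :=
      ShortComplex.exact_of_g_is_cokernel _ (cokernelIsCokernel u)
    exact h.epi_kernelLift
  let S' := ShortComplex.mk (kernel.ι l) l (kernel.condition l)
  have hS' : S'.ShortExact :=
    { exact := ShortComplex.exact_of_f_is_kernel _ (kernelIsKernel l)
      mono_f := inferInstanceAs (Mono (kernel.ι l))
      epi_g := hl }
  have : S'.X₁.IsQuasicoherent := inferInstanceAs (kernel l).IsQuasicoherent
  have : S'.X₂.IsQuasicoherent := inferInstanceAs (Coh.structureModule Y).IsQuasicoherent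
  have : S'.X₃.IsQuasicoherent := inferInstanceAs (kernel π).IsQuasicoherent
  have e1 := (Groth.CohFin.shortExact_push_affine f hS).map_of_exact (ab X)
  have e2 := (Groth.CohFin.shortExact_push_affine f hS').map_of_exact (ab X)
  have he1 : Epi ((ab X).map ((Scheme.Modules.pushforward f).map π)) := e1.epi_g
  refine ⟨he1, fun A h hh => ?_⟩
  have he2 : Epi ((ab X).map ((Scheme.Modules.pushforward f).map l)) := e2.epi_g
  have hk : (ab X).map ((Scheme.Modules.pushforward f).map (kernel.ι π)) ≫ h = 0 := by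
    refine he2.left_cancellation _ _ ?_
    rw [comp_zero, ← Category.assoc, ← Functor.map_comp, ← Functor.map_comp, kernel.lift_ι]
    exact hh
  exact ⟨e1.gIsCokernel.desc (CokernelCofork.ofπ h hk), e1.gIsCokernel.fac (CokernelCofork.ofπ h hk)
    Limits.WalkingParallelPair.one⟩

/-- The direct image of the structure sheaf, as an algebra. -/
def pushIso (f : Y ⟶ X) [QuasiCompact f] [QuasiSeparated f] :
    (RelSpec.QCAlg.directImage f).toModule ≅ (Scheme.Modules.pushforward f).obj (Coh.structureModule Y) where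
  hom := ⟨PresheafOfModules.homMk
    { app := fun U => AddCommGrpCat.ofHom (AddMonoidHom.mk' (fun s => s) fun _ _ => rfl)
      naturality := fun U V i => rfl }
    fun U r s => rfl⟩
  inv := ⟨PresheafOfModules.homMk
    { app := fun U => AddCommGrpCat.ofHom (AddMonoidHom.mk' (fun s => s) fun _ _ => rfl)
      naturality := fun U V i => rfl }
    fun U r s => rfl⟩
  hom_inv_id := rfl
  inv_hom_id := rfl

/-- The normalised trace of a double cover. -/
theorem exists_retraction (hp : p ≠ 2) (f : Y ⟶ X) [QuasiCompact f] [QuasiSeparated f]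
    (h2 : FlatMod.IsFinLocFreeOfRank 2 ((Scheme.Modules.pushforward f).obj (Coh.structureModule Y))) :
    ∃ R : ∀ V : X.Opens, Γ(Y, f ⁻¹ᵁ V) →+ Γ(X, V),
      (∀ (V W : X.Opens) (i : W ≤ V) s, X.presheaf.map (homOfLE i).op (R V s) =
        R W (Y.presheaf.map (homOfLE (f.preimage_mono i)).op s)) ∧
      (∀ V s, R V (s ^ p) = R V s ^ p) ∧ ∀ V r, R V (f.app V r) = r := by
  let A := RelSpec.QCAlg.directImage f
  have hA : FlatMod.IsFinLocFreeOfRank 2 A.toModule :=
    LocFree.isFinLocFreeOfRank_of_iso (pushIso f).symm h2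
  obtain ⟨τ, hτ, -⟩ := existsUnique_isTrace (A := A) (LocFree.isFinLocFree_of_rank hA)
  obtain ⟨c, hc⟩ : ∃ c : ℕ, c * 2 = p + 1 := by
    obtain ⟨m, hm⟩ := (Fact.out : p.Prime).odd_of_ne_two hp
    exact ⟨m + 1, by omega⟩
  have hc1 : ∀ (V : X.Opens) (r : Γ(X, V)), c • (2 • r) = r := fun V r => by
    rw [← mul_smul, hc, add_smul, one_smul, nsmul_eq_mul, FrobSch.natCast_eq_zero_app X p V,
      zero_mul, zero_add]
  let T : ∀ V : X.Opens, Γ(Y, f ⁻¹ᵁ V) →+ Γ(X, V) := fun V =>
    AddMonoidHom.mk' (fun s => toFun (τ.app V (ofB A (W := V) s))) fun a b =>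
      map_add (τ.app V).hom _ _
  refine ⟨fun V => AddMonoidHom.mk' (fun s => c • T V s) fun a b => by rw [map_add, smul_add],
    fun V W i s => ?_, fun V s => ?_, fun V r => ?_⟩
  · show X.presheaf.map (homOfLE i).op (c • T V s) = c • T W _
    rw [map_nsmul]
    congr 1
    exact congr($(τ.val.naturality (homOfLE i).op) (ofB A (W := V) s)).symm
  · have hT : T V (s ^ p) = T V s ^ p := by
      choose U t hU hxU ht using fun x => LocFree.exists_affine_basis_ofRank hA x
      have hcov : iSup U = ⊤ := top_le_iff.1 fun x _ => Opens.mem_iSup.2 ⟨x, hxU x⟩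
      refine res_ext (M := Coh.structureModule X) (fun x => V ⊓ U x) (fun _ => inf_le_left)
        (le_iSup_inf hcov V) (x := τ.app V (ofB A (W := V) (s ^ p)))
        (y := ((T V s ^ p : Γ(X, V)) : Γ(Coh.structureModule X, V))) fun x => ?_
      rw [← app_res]
      have h1 := app_eq_trSec hτ (ht x) (V := V ⊓ U x) inf_le_right
      refine (h1 _).trans ?_
      show trSec A (V ⊓ U x) _ = X.presheaf.map (homOfLE inf_le_left).op (T V s ^ p)
      rw [map_pow]
      have h2 : X.presheaf.map (homOfLE (inf_le_left : V ⊓ U x ≤ V)).op (T V s) =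
          trSec A (V ⊓ U x) (Y.presheaf.map (homOfLE (f.preimage_mono inf_le_left)).op s) :=
        (congr($(τ.val.naturality (homOfLE (inf_le_left : V ⊓ U x ≤ V)).op) (ofB A (W := V) s))).symm.trans
          (h1 _)
      rw [h2]
      letI := secAlg A (V ⊓ U x)
      refine Eq.trans ?_ (algebraTrace_pow p (algBasis A (ht x) inf_le_right)
        (FrobSch.natCast_eq_zero_app X p _) _)
      show trSec A (V ⊓ U x) (Y.presheaf.map (homOfLE (f.preimage_mono inf_le_left)).op (s ^ p)) = _
      rw [map_pow]
      rfl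
    show c • T V (s ^ p) = (c • T V s) ^ p
    rw [hT, nsmul_eq_mul, nsmul_eq_mul, mul_pow]
    congr 1
    have hcp : ((c : Γ(X, V))) ^ p = (c : Γ(X, V)) :=
      map_natCast (FrobSch.powHom p Γ(X, V) (FrobSch.natCast_eq_zero_app X p V)) c
    exact hcp.symm
  · exact (congrArg (c • ·) (app_bstr hA hτ V r)).trans (hc1 V r)

theorem subsingleton_HH_of_double (hp : p ≠ 2) (f : Y ⟶ X) [IsFinite f] [CompactSpace Y] [Y.IsSeparated]
    [X.IsSeparated]
    (h2 : FlatMod.IsFinLocFreeOfRank 2 ((Scheme.Modules.pushforward f).obj (Coh.structureModule Y)))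
    (i : ℕ) (hY : Subsingleton (Coh.HH Y (cokernel (ClSub.unitToPush (FrobSch.frob Y p))) i)) :
    Subsingleton (Coh.HH X (cokernel (ClSub.unitToPush (FrobSch.frob X p))) i) := by
  obtain ⟨R, hRnat, hRpow, hR⟩ := exists_retraction hp f h2
  let FX := (Scheme.Modules.pushforward (FrobSch.frob X p)).obj (Coh.structureModule X)
  let FY := (Scheme.Modules.pushforward f).obj
    ((Scheme.Modules.pushforward (FrobSch.frob Y p)).obj (Coh.structureModule Y))
  let uX := ClSub.unitToPush (FrobSch.frob X p)
  let uf := (Scheme.Modules.pushforward f).map (ClSub.unitToPush (FrobSch.frob Y p))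
  let πf := (Scheme.Modules.pushforward f).map (cokernel.π (ClSub.unitToPush (FrobSch.frob Y p)))
  let E₀ : (ab X).obj FX ⟶ (ab X).obj FY :=
    ⟨{ app := fun U => AddCommGrpCat.ofHom (AddMonoidHom.mk'
          (fun (s : Γ(X, U.unop)) => (f.app U.unop).hom s) (map_add (f.app U.unop).hom))
       naturality := fun U V j => by
        ext (s : Γ(X, U.unop))
        exact congr($(f.naturality j) s) }⟩
  let R₀ : (ab X).obj FY ⟶ (ab X).obj FX :=
    ⟨{ app := fun U => AddCommGrpCat.ofHom (AddMonoidHom.mk'
          (fun (s : Γ(Y, f ⁻¹ᵁ U.unop)) => R U.unop s) (map_add (R U.unop)))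
       naturality := fun U V j => by
        ext (s : Γ(Y, f ⁻¹ᵁ U.unop))
        exact (hRnat U.unop V.unop (leOfHom j.unop) s).symm }⟩
  let G : (ab X).obj (Coh.structureModule X) ⟶
      (ab X).obj ((Scheme.Modules.pushforward f).obj (Coh.structureModule Y)) :=
    ⟨{ app := fun U => AddCommGrpCat.ofHom (AddMonoidHom.mk'
          (fun (s : Γ(X, U.unop)) => (f.app U.unop).hom s) (map_add (f.app U.unop).hom))
       naturality := fun U V j => by
        ext (s : Γ(X, U.unop))
        exact congr($(f.naturality j) s) }⟩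
  let G' : (ab X).obj ((Scheme.Modules.pushforward f).obj (Coh.structureModule Y)) ⟶
      (ab X).obj (Coh.structureModule X) :=
    ⟨{ app := fun U => AddCommGrpCat.ofHom (AddMonoidHom.mk'
          (fun (s : Γ(Y, f ⁻¹ᵁ U.unop)) => R U.unop s) (map_add (R U.unop)))
       naturality := fun U V j => by
        ext (s : Γ(Y, f ⁻¹ᵁ U.unop))
        exact (hRnat U.unop V.unop (leOfHom j.unop) s).symm }⟩
  have c1 : (ab X).map uX ≫ E₀ = G ≫ (ab X).map uf := by
    ext U (s : Γ(X, U.unop))
    exact map_pow (f.app U.unop).hom s p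
  have c2 : (ab X).map uf ≫ R₀ = G' ≫ (ab X).map uX := by
    ext U (s : Γ(Y, f ⁻¹ᵁ U.unop))
    exact hRpow U.unop s
  have c3 : E₀ ≫ R₀ = 𝟙 _ := by
    ext U (s : Γ(X, U.unop))
    exact hR U.unop s
  obtain ⟨hepi, hdesc⟩ := epi_and_exact_push p f
  have eX : (ShortComplex.mk ((ab X).map uX) ((ab X).map (cokernel.π uX))
      (by rw [← Functor.map_comp, cokernel.condition, Functor.map_zero])).Exact :=
    (ShortComplex.exact_of_g_is_cokernel (ShortComplex.mk uX (cokernel.π uX) (cokernel.condition uX))
      (cokernelIsCokernel uX)).map (ab X)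
  have hπX : Epi ((ab X).map (cokernel.π uX)) := inferInstance
  have hc : (ab X).map uX ≫ E₀ ≫ (ab X).map πf = 0 := by
    rw [reassoc_of% c1, ← Functor.map_comp,
      show uf ≫ πf = 0 by rw [← Functor.map_comp, cokernel.condition, Functor.map_zero],
      Functor.map_zero, comp_zero]
  let E : (ab X).obj (cokernel uX) ⟶ (ab X).obj ((Scheme.Modules.pushforward f).obj
      (cokernel (ClSub.unitToPush (FrobSch.frob Y p)))) := eX.gIsCokernel.desc (CokernelCofork.ofπ (E₀ ≫ (ab X).map πf) hc)
  have hE : (ab X).map (cokernel.π uX) ≫ E = E₀ ≫ (ab X).map πf :=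
    eX.gIsCokernel.fac _ Limits.WalkingParallelPair.one
  obtain ⟨D, hD⟩ := hdesc _ (R₀ ≫ (ab X).map (cokernel.π uX)) (by
    rw [reassoc_of% c2, ← Functor.map_comp, cokernel.condition, Functor.map_zero, comp_zero])
  have hED : E ≫ D = 𝟙 _ := by
    refine hπX.left_cancellation _ _ ?_
    rw [← Category.assoc, hE, Category.assoc]
    exact (congrArg (E₀ ≫ ·) hD).trans ((reassoc_of% c3) _ |>.trans (Category.comp_id _).symm)
  have := isAffineHom_frob (p := p) (X := Y)
  have : ((Scheme.Modules.pushforward (FrobSch.frob Y p)).obj (Coh.structureModule Y)).IsQuasicoherent :=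
    Groth.QCohMod.isQCoh_pushforward _ _
  obtain ⟨e⟩ := Groth.CohFin.nonempty_linearEquiv_push f X.toSpecΓ i
    (cokernel (ClSub.unitToPush (FrobSch.frob Y p)))
  have hsub : Subsingleton (Sheaf.H ((ab X).obj ((Scheme.Modules.pushforward f).obj
      (cokernel (ClSub.unitToPush (FrobSch.frob Y p))))) i) :=
    @Function.Injective.subsingleton _ _ e e.injective hY
  refine ⟨fun x y => ?_⟩
  have key : ∀ z : Sheaf.H ((ab X).obj (cokernel uX)) i, Sheaf.H.map D i (Sheaf.H.map E i z) = z :=
    fun z => by rw [← Sheaf.H.map_comp_apply, hED, Sheaf.H.map_id_apply]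
  exact (key x).symm.trans ((congrArg (Sheaf.H.map D i) (Subsingleton.elim _ _)).trans (key y))

end Groth.Misc10.FrobSplit
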