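import Mathlib

/-!
# Traces of `p`-th powers in characteristic `p`
-/

set_option autoImplicit false

open Polynomial Matrix

noncomputable section

namespace Groth.Misc10.FrobSplit

variable {A : Type*} [CommRing A] (p : ℕ) [Fact p.Prime] {n : Type*} [DecidableEq n] [Fintype n]

theorem charpoly_pow_char [CharP A p] [Nonempty n] (M : Matrix n n A) :
    (M ^ p).charpoly = M.charpoly.map (frobenius A p) := by
  have : Nontrivial A := CharP.nontrivial_of_char_ne_one (Fact.out : p.Prime).ne_one
  apply Polynomial.expand_injective (Fact.out : p.Prime).pos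
  rw [← Polynomial.map_expand, Polynomial.map_frobenius_expand]
  unfold Matrix.charpoly
  rw [AlgHom.map_det, ← Matrix.coe_detMonoidHom,
    ← (detMonoidHom : Matrix n n A[X] →* A[X]).map_pow]
  refine congr_arg det (matPolyEquiv.injective ?_)
  rw [map_pow, matPolyEquiv_charmatrix, sub_pow_char_of_commute, ← C_pow]
  · exact (id (matPolyEquiv_eq_X_pow_sub_C p M) :)
  · exact (C M).commute_X

theorem trace_pow_char [CharP A p] (M : Matrix n n A) : trace (M ^ p) = trace M ^ p := by
  have hp : p.Prime := Fact.out
  cases isEmpty_or_nonempty n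
  · simp [Matrix.trace, zero_pow hp.ne_zero]
  have : Nontrivial A := CharP.nontrivial_of_char_ne_one hp.ne_one
  rw [Matrix.trace_eq_neg_charpoly_coeff, Matrix.trace_eq_neg_charpoly_coeff, charpoly_pow_char p M,
    Polynomial.coeff_map, ← frobenius_def, map_neg]

/-- The trace of a finite free algebra commutes with `p`-th powers in characteristic `p`. -/
theorem algebraTrace_pow {B : Type*} [CommRing B] [Algebra A B] {ι : Type*} [Fintype ι]
    (b : Module.Basis ι A B) (h : (p : A) = 0) (x : B) :
    Algebra.trace A B (x ^ p) = Algebra.trace A B x ^ p := by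
  classical
  rcases subsingleton_or_nontrivial A with hA | hA
  · exact Subsingleton.elim _ _
  have : CharP A p := (CharP.charP_iff_prime_eq_zero Fact.out).2 h
  rw [Algebra.trace_eq_matrix_trace b, Algebra.trace_eq_matrix_trace b, map_pow, trace_pow_char]

end Groth.Misc10.FrobSplit
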